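import Cfsg.Agent.H257.El.Eng

/-!
# TEAM ELUSIVE: the automorphism version of the engine of helper257, and the criterion with two classes (helper904)

`Der T R` : some element of prime order of `T` has no image under `Aut T` in `R`.

* `exists_comm_index` : elements of order `r s` from `s ∣ |Q : N|`
* `sq_not_dvd` : `s ^ 2 ∤ |N|` implies `s ^ 2 ∤ |R|`
* `SitA`, `SitA.exists_surv` : the engine with `Der`
* `der_of_two` : the criterion with two elements of order `s` with centralizers of different orders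
-/

set_option autoImplicit false

namespace Cfsg.Agent.H904.El

open Subgroup
open Cfsg.Agent.OrdDiv Cfsg.Agent.H257.El Cfsg.Agent.H396

universe u

/-- an element of order `r s` from a normal subgroup with index divisible by `s` -/
theorem exists_comm_index {Q : Type*} [Group Q] [Finite Q] {r s : ℕ} (hr : r.Prime) (hs : s.Prime) (hrs : r ≠ s)
    (h2 : ¬ r ^ 2 ∣ Nat.card Q) (N : Subgroup Q) [hN : N.Normal] (hd : r ∣ Nat.card N) (hsN : s ∣ N.index)
    (hs1 : ¬ s ∣ r - 1) : ∃ z : Q, orderOf z = r * s := by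
  have hr' : Fact r.Prime := ⟨hr⟩
  have hs' : Fact s.Prime := ⟨hs⟩
  obtain ⟨P⟩ : Nonempty (Sylow r N) := inferInstance
  have hfr := Sylow.normalizer_sup_eq_top P
  set P' : Subgroup Q := (P : Subgroup N).map N.subtype with hP'
  have hM : s ∣ Nat.card (normalizer (P' : Set Q)) := by
    have h3 : N.relIndex (normalizer (P' : Set Q) ⊔ N) = N.relIndex (normalizer (P' : Set Q)) :=
      Subgroup.relIndex_sup_right _ _
    rw [hfr, Subgroup.relIndex_top_right] at h3
    rw [h3] at hsN
    exact hsN.trans (Subgroup.relIndex_dvd_card _ _)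
  obtain ⟨⟨y, hyM⟩, hy⟩ := exists_prime_orderOf_dvd_card' s hM
  rw [Subgroup.orderOf_mk] at hy
  have hPp : IsPGroup r P' := P.isPGroup'.map _
  obtain ⟨b, hb⟩ := IsPGroup.iff_card.1 hPp
  have hPc : Nat.card P' = Nat.card P := by
    rw [hP', Subgroup.card_map_of_injective N.subtype_injective]
  have hb1 : 1 ≤ b := by
    by_contra hb0
    have : b = 0 := by omega
    rw [this, pow_zero] at hb
    have h3 := P.card_eq_multiplicity
    rw [← hPc, hb] at h3
    have h4 : 1 ≤ (Nat.card N).factorization r := by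
      have := (hr.pow_dvd_iff_le_factorization (k := 1) (n := Nat.card N) Nat.card_pos.ne').1 (by rwa [pow_one])
      exact this
    have h5 := Nat.one_lt_pow (n := (Nat.card N).factorization r) (by omega) hr.one_lt
    omega
  have hb2 : b ≤ 1 := by
    by_contra hb3
    apply h2
    refine (pow_dvd_pow r (show 2 ≤ b by omega)).trans ?_
    rw [← hb]
    exact Subgroup.card_subgroup_dvd_card P'
  have hbe : b = 1 := by omega
  rw [hbe, pow_one] at hb
  obtain ⟨w, hwP, hw, hyw⟩ := exists_comm_of_normalizer hs hr hy hPp hyM (by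
    intro h3
    rw [hb] at h3
    apply hs1
    have h4 : r ≡ 1 [MOD s] := by
      unfold Nat.ModEq
      rw [h3, Nat.mod_eq_of_lt hs.one_lt]
    exact (Nat.modEq_iff_dvd' hr.one_lt.le).1 h4.symm)
  refine ⟨w * y, ?_⟩
  exact orderOf_mul_of_comm hr hs hrs hw hy hyw.symm

section

variable {R : Type*} [Group R] [Finite R] {r : ℕ} {O : Subgroup R} [O.Normal] {N : Subgroup (R ⧸ O)} {s : ℕ}

theorem not_dvd_index (h : Top R r O N) (hs : s.Prime) (hrs : r ≠ s) (hno : ∀ z : R, orderOf z ≠ r * s)
    (hs1 : ¬ s ∣ r - 1) : ¬ s ∣ N.index := by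
  intro hd
  have := h.normal
  obtain ⟨z, hz⟩ := exists_comm_index h.prime hs hrs h.sq' N h.dvd hd hs1
  obtain ⟨y, rfl⟩ := QuotientGroup.mk'_surjective O z
  obtain ⟨k, hk⟩ := exists_lift (QuotientGroup.mk' O) hz
  exact hno _ hk

/-- the `s`-part of `|R|` is the one of `|N|` -/
theorem pow_dvd_of_dvd (h : Top R r O N) (hs : s.Prime) (hrs : r ≠ s) (hno : ∀ z : R, orderOf z ≠ r * s)
    (hord : ∀ b, 1 ≤ b → s ^ b ∣ Nat.card R → s ^ b % r ≠ 1) (hs1 : ¬ s ∣ r - 1) {k : ℕ}
    (hd : s ^ k ∣ Nat.card R) : s ^ k ∣ Nat.card N := by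
  have h1 := h.not_dvd_core hs hrs hno hord
  have h2 := not_dvd_index h hs hrs hno hs1
  have h3 : Nat.card R = Nat.card N * N.index * Nat.card O := by
    rw [Subgroup.card_mul_index, card_quot_mul]
  rw [h3] at hd
  have h4 : s ^ k ∣ Nat.card N * N.index :=
    Nat.Coprime.dvd_of_dvd_mul_right (Nat.Coprime.pow_left _ ((Nat.Prime.coprime_iff_not_dvd hs).2 h1)) hd
  exact Nat.Coprime.dvd_of_dvd_mul_right (Nat.Coprime.pow_left _ ((Nat.Prime.coprime_iff_not_dvd hs).2 h2)) h4

end

/-! ### the situation -/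

variable {T : Type u} [Group T] [Finite T]

/-- The situation, with all automorphisms. -/
structure SitA (T : Type u) [Group T] (n : ℕ) (l : List (ℕ × ℕ)) (r : ℕ) (R : Subgroup T) : Prop where
  tab : OrderTable.{u}
  known : Known.{u}
  card : Nat.card T = n
  valid : valid l n = true
  prime : r.Prime
  dvd : r ∣ n
  sq : ¬ r ^ 2 ∣ n
  ne : R ≠ ⊤
  nder : ¬ Der T R

namespace SitA

variable {n : ℕ} {l : List (ℕ × ℕ)} {r : ℕ} {R : Subgroup T}

omit [Finite T] in
theorem dvd_n (S : SitA T n l r R) : Nat.card R ∣ n := by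
  rw [← S.card]
  exact Subgroup.card_subgroup_dvd_card R

theorem dvd_card (S : SitA T n l r R) {p : ℕ} (hp : p.Prime) (hd : p ∣ n) : p ∣ Nat.card R := by
  by_contra hn
  exact S.nder (der_of_prime hp (by rw [S.card]; exact hd) hn)

omit [Finite T] in
theorem sqR (S : SitA T n l r R) : ¬ r ^ 2 ∣ Nat.card R := fun h => S.sq (h.trans S.dvd_n)

theorem card_lt (S : SitA T n l r R) : Nat.card R < n := by
  rw [← S.card]
  refine lt_of_le_of_ne (Nat.le_of_dvd Nat.card_pos (Subgroup.card_subgroup_dvd_card R)) fun h => S.ne ?_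
  exact Subgroup.eq_top_of_card_eq R h

theorem exists_top (S : SitA T n l r R) :
    ∃ (O : Subgroup R) (_ : O.Normal) (N : Subgroup (R ⧸ O)), Top R r O N :=
  H257.El.exists_top S.prime (S.dvd_card S.prime S.dvd) S.sqR

omit [Finite T] in
theorem noR {k : ℕ} (hno : ∀ z : T, orderOf z ≠ k) (z : R) : orderOf z ≠ k := by
  rw [← Subgroup.orderOf_coe]
  exact hno z

variable {O : Subgroup R} [O.Normal] {N : Subgroup (R ⧸ O)}

/-- the primes not adjacent to `r` do not divide the order of the core -/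
theorem not_dvd_core (S : SitA T n l r R) (h : Top R r O N) {s : ℕ} (hs : s.Prime) (hrs : r ≠ s)
    (hno : ∀ z : T, orderOf z ≠ r * s) (hok : okPow l r s = true) : ¬ s ∣ Nat.card O :=
  h.not_dvd_core hs hrs (noR hno) fun _ hb hd => okPow_spec S.valid hok hs hb (hd.trans S.dvd_n)

/-- the primes not adjacent to `r` divide the order of the simple group at the top -/
theorem dvd_simple (S : SitA T n l r R) (h : Top R r O N) {s : ℕ} (hs : s.Prime)
    (hno : ∀ z : T, orderOf z ≠ r * s) (hok : okPair n l r s = true) : s ∣ Nat.card N := by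
  unfold okPair at hok
  rw [Bool.and_eq_true, Bool.and_eq_true, Bool.and_eq_true] at hok
  obtain ⟨⟨⟨h1, h2⟩, h3⟩, h4⟩ := hok
  have h1' : r ≠ s := by simpa using h1
  have h2' : ¬ s ∣ r - 1 := by
    intro hd
    rw [Nat.mod_eq_zero_of_dvd hd] at h2
    exact absurd h2 (by decide)
  have h3' : s ∣ n := Nat.dvd_of_mod_eq_zero (by simpa using h3)
  exact h.dvd_simple hs h1' (noR hno) (fun _ hb hd => okPow_spec S.valid h4 hs hb (hd.trans S.dvd_n)) h2'
    (S.dvd_card hs h3')

/-- powers of the primes not adjacent to `r` dividing `|R|` divide the order of the simple group at the top -/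
theorem pow_dvd_simple (S : SitA T n l r R) (h : Top R r O N) {s : ℕ} (hs : s.Prime)
    (hno : ∀ z : T, orderOf z ≠ r * s) (hok : okPair n l r s = true) {k : ℕ} (hd : s ^ k ∣ Nat.card R) :
    s ^ k ∣ Nat.card N := by
  unfold okPair at hok
  rw [Bool.and_eq_true, Bool.and_eq_true, Bool.and_eq_true] at hok
  obtain ⟨⟨⟨h1, h2⟩, h3⟩, h4⟩ := hok
  have h1' : r ≠ s := by simpa using h1
  have h2' : ¬ s ∣ r - 1 := by
    intro hd
    rw [Nat.mod_eq_zero_of_dvd hd] at h2
    exact absurd h2 (by decide)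
  exact pow_dvd_of_dvd h hs h1' (noR hno) (fun _ hb hd => okPow_spec S.valid h4 hs hb (hd.trans S.dvd_n)) h2' hd

/-- a non-commutative `N` is in the list -/
theorem exists_surv (S : SitA T n l r R) (h : Top R r O N) (hna : ¬ ∀ a b : N, a * b = b * a) (ss : List ℕ)
    (hss : ∀ s ∈ ss, s ∣ Nat.card N) : ∃ g ∈ surv n l r ss, Real g N ∧ Nat.card N = ordN g := by
  have hsim := h.simple
  have hNR : Nat.card N ∣ Nat.card R := by
    refine (Subgroup.card_subgroup_dvd_card N).trans ?_
    rw [← card_quot_mul O]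
    exact dvd_mul_right _ _
  have hNn : Nat.card N ∣ n := hNR.trans S.dvd_n
  obtain ⟨g, hg, hr, hc⟩ := exists_good S.tab (S.known N) hna S.valid hNn
  refine ⟨g, List.mem_filter.2 ⟨hg, ?_⟩, hr, hc⟩
  unfold okG
  rw [Bool.and_eq_true, Bool.and_eq_true, List.all_eq_true]
  refine ⟨⟨?_, ?_⟩, fun s hs => ?_⟩
  · rw [← hc, Nat.mod_eq_zero_of_dvd h.dvd]; rfl
  · rw [← hc]
    have h1 : Nat.card N ≤ Nat.card R := Nat.le_of_dvd Nat.card_pos hNR
    have h2 := S.card_lt
    have h3 : Nat.card N ≠ n := by omega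
    simpa using h3
  · rw [← hc, Nat.mod_eq_zero_of_dvd (hss s hs)]; rfl

/-- an element of `N` gives elements of `R` with orders divisible by its order; orders missing in `T` are missing -/
theorem no_order (_S : SitA T n l r R) {k : ℕ} (hno : ∀ z : T, orderOf z ≠ k) (x : N) : orderOf x ≠ k := by
  intro hx
  obtain ⟨y, hy⟩ := QuotientGroup.mk'_surjective O (x : R ⧸ O)
  obtain ⟨j, hj⟩ := exists_lift (QuotientGroup.mk' O) (z := y) (n := k) (by rw [hy, Subgroup.orderOf_coe, hx])
  exact noR hno _ hj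

end SitA

/-! ### two classes of elements of order `s` -/

section

variable {G H : Type*} [Group G] [Group H]

theorem card_cent_equiv (e : G ≃* H) (x : G) :
    Nat.card (centralizer ({e x} : Set H)) = Nat.card (centralizer ({x} : Set G)) := by
  have h : centralizer ({e x} : Set H) = (centralizer ({x} : Set G)).map e.toMonoidHom := by
    ext y
    rw [mem_centralizer_singleton_iff, mem_map_equiv, mem_centralizer_singleton_iff]
    constructor
    · intro h
      apply e.injective
      rw [map_mul, map_mul, e.apply_symm_apply, h]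
    · intro h
      have h1 := congrArg e h
      rwa [map_mul, map_mul, e.apply_symm_apply] at h1
  rw [h]
  exact Subgroup.card_map_of_injective e.injective

/-- the centralizer of a generator of the same group of prime order -/
theorem centralizer_eq_of_mem_zpowers {s : ℕ} (hs : s.Prime) {x y : G} (hx : orderOf x = s) (hy : orderOf y = s)
    (h : y ∈ zpowers x) : centralizer ({y} : Set G) = centralizer ({x} : Set G) := by
  have h1 : zpowers y = zpowers x := by
    have hf : Finite (zpowers x) := Nat.finite_of_card_ne_zero (by rw [Nat.card_zpowers, hx]; exact hs.ne_zero)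
    apply Subgroup.eq_of_le_of_card_ge (zpowers_le.2 h)
    rw [Nat.card_zpowers, Nat.card_zpowers, hx, hy]
  have h2 : ∀ w : G, centralizer ({w} : Set G) = centralizer ((zpowers w : Subgroup G) : Set G) := by
    intro w
    rw [zpowers_eq_closure, centralizer_closure]
  rw [h2 y, h2 x, h1]

end

/-- **two elements of order `s` with centralizers of different orders** -/
theorem false_of_two {R : Subgroup T} (hnd : ¬ Der T R) {s : ℕ} (hs : s.Prime) (h2 : ¬ s ^ 2 ∣ Nat.card R)
    {x y : T} (hx : orderOf x = s) (hy : orderOf y = s)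
    (hxy : Nat.card (centralizer ({x} : Set T)) ≠ Nat.card (centralizer ({y} : Set T))) : False := by
  have hs' : Fact s.Prime := ⟨hs⟩
  have key : ∀ w : T, orderOf w = s → ∃ φ : T ≃* T, φ w ∈ R := by
    intro w hw
    by_contra hn
    push Not at hn
    exact hnd ⟨w, by rw [hw]; exact hs, hn⟩
  obtain ⟨φ, hφ⟩ := key x hx
  obtain ⟨ψ, hψ⟩ := key y hy
  have hx' : orderOf (⟨φ x, hφ⟩ : R) = s := by
    rw [Subgroup.orderOf_mk, ← hx]
    exact (orderOf_injective φ.toMonoidHom φ.injective x)
  have hy' : orderOf (⟨ψ y, hψ⟩ : R) = s := by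
    rw [Subgroup.orderOf_mk, ← hy]
    exact (orderOf_injective ψ.toMonoidHom ψ.injective y)
  obtain ⟨g, hg⟩ := conj_of_cyclic (fun P => cyclic_of_sq h2 P) hx' hy'
  obtain ⟨j, hj⟩ := mem_zpowers_iff.1 hg
  have h1 : (φ x) ^ j = (g : T) * (ψ y) * (g : T)⁻¹ := congrArg Subtype.val hj
  apply hxy
  rw [← card_cent_equiv φ x, ← card_cent_equiv ψ y, ← card_cent_equiv (MulAut.conj (g : T)) (ψ y)]
  have h3 : MulAut.conj (g : T) (ψ y) = (g : T) * (ψ y) * (g : T)⁻¹ := rfl
  rw [h3]
  have h4 : orderOf ((g : T) * (ψ y) * (g : T)⁻¹) = s := by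
    rw [Subgroup.orderOf_mk] at hy'
    rw [← hy']
    exact (orderOf_injective (MulAut.conj (g : T)).toMonoidHom (MulAut.conj (g : T)).injective (ψ y))
  rw [centralizer_eq_of_mem_zpowers hs (by rwa [Subgroup.orderOf_mk] at hx') h4 (mem_zpowers_iff.2 ⟨j, h1⟩)]

/-- the numeric checks of `der_of_two` : the survivors with order divisible by `s ^ 2` are in the list `bad` -/
def chkTwo (n : ℕ) (l : List (ℕ × ℕ)) (r s : ℕ) (ss : List ℕ) (bad : List Grp) : Bool :=
  OrdDiv.valid l n && (n % r == 0) && (n % r ^ 2 != 0) && okPair n l r s && (ss.all fun t => okPair n l r t) &&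
    (surv n l r (s :: ss)).all fun g => (ordN g % s ^ 2 != 0) || bad.contains g

/-- **the criterion with two classes of elements of order `s`** -/
theorem der_of_two (tab : OrderTable.{u}) (known : Known.{u}) {n : ℕ} {l : List (ℕ × ℕ)} {r s : ℕ} {ss : List ℕ}
    {bad : List Grp} (hn : Nat.card T = n) (hr : r.Prime) (hs : s.Prime) (hno : ∀ z : T, orderOf z ≠ r * s)
    (hss : ∀ t ∈ ss, t.Prime ∧ ∀ z : T, orderOf z ≠ r * t) (hchk : chkTwo n l r s ss bad = true) {x y : T}
    (hx : orderOf x = s) (hy : orderOf y = s)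
    (hxy : Nat.card (centralizer ({x} : Set T)) ≠ Nat.card (centralizer ({y} : Set T))) {R : Subgroup T} (hR : R ≠ ⊤)
    (hbad : ∀ (O : Subgroup R) (_ : O.Normal) (N : Subgroup (R ⧸ O)), Top R r O N → ∀ g ∈ bad, Real g N →
      ∃ (k : ℕ) (z : N), orderOf z = k ∧ ∀ w : T, orderOf w ≠ k) : Der T R := by
  by_contra hnd
  unfold chkTwo at hchk
  rw [Bool.and_eq_true, Bool.and_eq_true, Bool.and_eq_true, Bool.and_eq_true, Bool.and_eq_true, List.all_eq_true,
    List.all_eq_true] at hchk
  obtain ⟨⟨⟨⟨⟨h1, h2⟩, h3⟩, h4⟩, h5⟩, h6⟩ := hchk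
  have S : SitA T n l r R := ⟨tab, known, hn, h1, hr, Nat.dvd_of_mod_eq_zero (by simpa using h2), by
    intro h
    rw [Nat.mod_eq_zero_of_dvd h] at h3
    exact absurd h3 (by decide), hR, hnd⟩
  obtain ⟨O, hO, N, h⟩ := S.exists_top
  have hrs : r ≠ s := by
    unfold okPair at h4
    rw [Bool.and_eq_true, Bool.and_eq_true, Bool.and_eq_true] at h4
    simpa using h4.1.1.1
  have hsN := S.dvd_simple h hs hno h4
  obtain ⟨g, hg, hgR, hgc⟩ := S.exists_surv h (Sit.not_comm_of_dvd h hs hrs hsN) (s :: ss) (by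
    intro t ht
    rcases List.mem_cons.1 ht with rfl | ht
    · exact hsN
    · exact S.dvd_simple h (hss t ht).1 (hss t ht).2 (h5 t ht))
  have h7 := h6 g hg
  rw [Bool.or_eq_true] at h7
  rcases h7 with h7 | h7
  · refine false_of_two hnd hs (fun hd => ?_) hx hy hxy
    have h8 := S.pow_dvd_simple h hs hno h4 hd
    rw [hgc] at h8
    rw [Nat.mod_eq_zero_of_dvd h8] at h7
    exact absurd h7 (by decide)
  · obtain ⟨k, z, hz, hw⟩ := hbad O hO N h g (by simpa using h7) hgR
    exact S.no_order hw z hz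

end Cfsg.Agent.H904.El
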