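import Cfsg.Agent.H904.El.Eng
import Cfsg.Agent.CpAut.SmallP.J2
import Cfsg.Agent.J2Type.ThreeF
import Cfsg.Agent.H713.Spor.JJ
import Cfsg.Agent.NotCT.Orders

/-!
# TEAM ELUSIVE: the second Janko group (helper904)

The elements of order five commuting with a 2-central involution have centralizers of order not divisible by 4, some
other elements of order five commute with a four-group. The proper subgroups of order divisible by `7` and `5` are not
divisible by `25`.
-/

set_option autoImplicit false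

namespace Cfsg.Agent.H904.El

open Subgroup

theorem exists_sylow {G : Type*} [Group G] [Finite G] {s : ℕ} (hs : s.Prime) (h2 : ¬ s ^ 2 ∣ Nat.card G) {v : G}
    (hv : orderOf v = s) : ∃ P : Sylow s G, (P : Subgroup G) = zpowers v := by
  have hf : Fact s.Prime := ⟨hs⟩
  have hZ : IsPGroup s (zpowers v) := by
    rw [IsPGroup.iff_card]
    exact ⟨1, by rw [Nat.card_zpowers, hv, pow_one]⟩
  obtain ⟨P, hP⟩ := hZ.exists_le_sylow
  refine ⟨P, ?_⟩
  obtain ⟨k, hk⟩ := IsPGroup.iff_card.1 P.2
  have h3 : k < 2 := by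
    by_contra hc
    push Not at hc
    exact h2 ((pow_dvd_pow s hc).trans (hk ▸ card_subgroup_dvd_card _))
  symm
  apply eq_of_le_of_card_ge hP
  rw [hk, Nat.card_zpowers, hv]
  calc s ^ k ≤ s ^ 1 := Nat.pow_le_pow_right hs.pos (by omega)
    _ = s := pow_one s

theorem three_le_card {H : Type*} [Group H] [Finite H] (S : Subgroup H) {a b : H} (ha : a ∈ S) (hb : b ∈ S)
    (h1 : a ≠ 1) (h2 : b ≠ 1) (h3 : a ≠ b) : 3 ≤ Nat.card S := by
  classical
  have h8 : ({1, a, b} : Finset H).card = 3 := by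
    rw [Finset.card_insert_of_notMem, Finset.card_insert_of_notMem, Finset.card_singleton]
    · simpa using h3
    · simp only [Finset.mem_insert, Finset.mem_singleton, not_or]
      exact ⟨h1.symm, h2.symm⟩
  have h9 : (({1, a, b} : Finset H) : Set H) ⊆ S := by
    intro w hw
    simp only [Finset.coe_insert, Finset.coe_singleton, Set.mem_insert_iff, Set.mem_singleton_iff] at hw
    rcases hw with rfl | rfl | rfl
    · exact one_mem _
    · exact ha
    · exact hb
  have h10 := Set.ncard_le_ncard h9 (Set.toFinite _)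
  rw [Set.ncard_coe_finset, h8] at h10
  exact h10

end Cfsg.Agent.H904.El

namespace Cfsg.Agent.H904.El.J2

open Cfsg Cfsg.Agent.OrdDiv Cfsg.Agent.H257.El Cfsg.Agent.H396 Subgroup
open Cfsg.Agent.J2Type.Base Cfsg.Agent.J2Type.CentU Cfsg.Agent.J2Type.Cent5 Cfsg.Agent.CpAut.SmallP

universe u

section

variable {G : Type*} [Group G] [Finite G] {z u : G}

theorem no35 (h : Fus z u) : ∀ x : G, orderOf x ≠ 7 * 5 := by
  have hc : Nat.card G = 604800 := J2Type.Order.card_of_fus h
  refine noOrd_of_noComm (by norm_num) (by norm_num) fun x y hx hy hxy => ?_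
  obtain ⟨P, hP⟩ := exists_sylow (s := 7) (by norm_num) (by rw [hc]; norm_num) hx
  have h1 := (Cfsg.Agent.J2Type.ThreeF.sylow_seven h P).1
  have h2 : y ∈ centralizer ((P : Subgroup G) : Set G) := by
    rw [hP, mem_centralizer_iff]
    intro w hw
    obtain ⟨k, rfl⟩ := mem_zpowers_iff.1 (show w ∈ zpowers x from hw)
    have h3 : Commute x y := hxy
    exact (h3.zpow_left k).eq
  rw [h1, hP] at h2
  have h3 := orderOf_dvd_of_mem_zpowers h2
  rw [hx, hy] at h3
  norm_num at h3

/-- some element of order five commutes with a four-group -/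
theorem exists_four (h : Fus z u) : ∃ x : G, orderOf x = 5 ∧ 4 ∣ Nat.card (centralizer ({x} : Set G)) := by
  obtain ⟨f, U, V, H0, F⟩ := J2Type.CentU.main h
  have h60 : Nat.card H0 = 60 := by
    have h1 := J2Type.Order.card_centralizer_u h
    rw [F.str.card] at h1
    omega
  have : Fact (Nat.Prime 5) := ⟨by norm_num⟩
  obtain ⟨⟨x, hxH⟩, hx⟩ := exists_prime_orderOf_dvd_card' (G := H0) 5 (by rw [h60]; norm_num)
  rw [Subgroup.orderOf_mk] at hx
  refine ⟨x, hx, ?_⟩
  have hle : V ≤ centralizer ({x} : Set G) := fun v hv =>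
    mem_centralizer_singleton_iff.2 (V_comm h F h60 hv hxH)
  have h1 := card_dvd_of_le hle
  rwa [F.cardV] at h1

/-- some element of order five has a centralizer of order not divisible by four -/
theorem exists_not_four (h : Fus z u) : ∃ x : G, orderOf x = 5 ∧ ¬ 4 ∣ Nat.card (centralizer ({x} : Set G)) := by
  have : Fact (Nat.Prime 5) := ⟨by norm_num⟩
  have hp2 : Fact (Nat.Prime 2) := ⟨Nat.prime_two⟩
  obtain ⟨⟨x, hxz⟩, hx⟩ := exists_prime_orderOf_dvd_card' (G := centralizer ({z} : Set G)) 5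
    (by rw [h.cardC]; norm_num)
  rw [Subgroup.orderOf_mk] at hx
  have hc : x * z = z * x := mem_centralizer_singleton_iff.1 hxz
  refine ⟨x, hx, fun h4 => ?_⟩
  have h10 := h.card10 x hx hc
  change Nat.card ↥(DD x z) = 10 at h10
  have hzC : z ∈ centralizer ({x} : Set G) := mem_centralizer_singleton_iff.2 hc.symm
  have hz2 : orderOf z = 2 := h.hz
  have hz1 : z ≠ 1 := fun h0 => by rw [h0, orderOf_one] at hz2; omega
  obtain ⟨T, hT⟩ := (IsPGroup.of_card (p := 2) (n := 1) (G := zpowers (⟨z, hzC⟩ : centralizer ({x} : Set G)))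
    (by rw [Nat.card_zpowers, Subgroup.orderOf_mk, hz2, pow_one])).exists_le_sylow
  have hzT : (⟨z, hzC⟩ : centralizer ({x} : Set G)) ∈ T := hT (mem_zpowers _)
  have h1 := H713.Spor.JJ.two_group_small T hzT (fun g hg hgz => ?_) (fun h0 => hz1 (congrArg Subtype.val h0))
  · have h2 : Nat.card T ≤ 2 := by
      classical
      have h3 : (T : Set (centralizer ({x} : Set G))) ⊆ {1, ⟨z, hzC⟩} := fun g hg => by
        rcases h1 g hg with h4 | h4
        · exact Or.inl h4
        · exact Or.inr h4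
      have h5 : Nat.card T = (T : Set (centralizer ({x} : Set G))).ncard := rfl
      rw [h5]
      exact (Set.ncard_le_ncard h3 (Set.toFinite _)).trans (Set.ncard_insert_le _ _ |>.trans (by simp))
    have h3 : 2 ^ 2 ∣ Nat.card T := T.pow_dvd_card_of_pow_dvd_card h4
    have h4 := Nat.le_of_dvd Nat.card_pos h3
    omega
  · -- `⟨g, z⟩` has order prime to 5 and divides 10
    obtain ⟨k, hk⟩ := IsPGroup.iff_orderOf.1 T.isPGroup' ⟨g, hg⟩
    rw [Subgroup.orderOf_mk] at hk
    have hgx : (g : G) * x = x * g := mem_centralizer_singleton_iff.1 g.2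
    have hgz' : (g : G) * z = z * g := congrArg Subtype.val hgz
    by_contra hne
    rw [not_or] at hne
    -- the subgroup `⟨g⟩⟨z⟩`
    have hcm : Commute (⟨g, mem_DD.2 ⟨hgz', hgx⟩⟩ : DD x z) ⟨z, mem_DD.2 ⟨rfl, hc.symm⟩⟩ := Subtype.ext hgz'
    let a : DD x z := ⟨g, mem_DD.2 ⟨hgz', hgx⟩⟩
    let b : DD x z := ⟨z, mem_DD.2 ⟨rfl, hc.symm⟩⟩
    have hP : IsPGroup 2 (zpowers a ⊔ zpowers b : Subgroup (DD x z)) := by
      have ha : IsPGroup 2 (zpowers a) := IsPGroup.of_card (n := k) (by
        rw [Nat.card_zpowers, ← hk, ← Subgroup.orderOf_coe, ← Subgroup.orderOf_coe g])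
      have hb : IsPGroup 2 (zpowers b) := IsPGroup.of_card (n := 1) (by
        rw [Nat.card_zpowers, ← Subgroup.orderOf_coe, hz2, pow_one])
      refine IsPGroup.to_sup_of_normal_right' ha hb ?_
      rw [zpowers_le, mem_normalizer_iff]
      intro w
      have : ∀ w : DD x z, w ∈ zpowers b → a * w * a⁻¹ = w := by
        intro w hw
        obtain ⟨j, rfl⟩ := mem_zpowers_iff.1 hw
        have h5 : Commute a (b ^ j) := hcm.zpow_right j
        rw [h5.eq, mul_inv_cancel_right]
      constructor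
      · intro hw
        rw [this w hw]; exact hw
      · intro hw
        obtain ⟨j, hj⟩ := mem_zpowers_iff.1 hw
        have h5 : Commute a (b ^ j) := hcm.zpow_right j
        have h6 : w = b ^ j := by
          calc w = a⁻¹ * (a * w * a⁻¹) * a := by group
            _ = a⁻¹ * b ^ j * a := by rw [hj]
            _ = b ^ j := by rw [mul_assoc, ← h5.eq, inv_mul_cancel_left]
        rw [h6]
        exact zpow_mem (mem_zpowers b) j
    obtain ⟨m, hm⟩ := IsPGroup.iff_card.1 hP
    have h5 : 2 ^ m ∣ 10 := by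
      rw [← hm, ← h10]
      exact card_subgroup_dvd_card _
    have h6 : m ≤ 1 := by
      by_contra h7
      have h8 : 2 ^ 2 ∣ 10 := (pow_dvd_pow 2 (show 2 ≤ m by omega)).trans h5
      norm_num at h8
    have h7 : Nat.card (zpowers a ⊔ zpowers b : Subgroup (DD x z)) ≤ 2 := by
      rw [hm]
      calc 2 ^ m ≤ 2 ^ 1 := Nat.pow_le_pow_right (by norm_num) h6
        _ = 2 := by norm_num
    -- three different elements
    have ha' : a ∈ (zpowers a ⊔ zpowers b : Subgroup (DD x z)) :=
      (le_sup_left : zpowers a ≤ zpowers a ⊔ zpowers b) (mem_zpowers a)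
    have hb' : b ∈ (zpowers a ⊔ zpowers b : Subgroup (DD x z)) :=
      (le_sup_right : zpowers b ≤ zpowers a ⊔ zpowers b) (mem_zpowers b)
    have hb1 : b ≠ 1 := fun h0 => hz1 (congrArg Subtype.val h0)
    have ha1 : a ≠ 1 := fun h0 => hne.1 (Subtype.ext (congrArg (fun w : DD x z => (w : G)) h0))
    have hab : a ≠ b := fun h0 => hne.2 (Subtype.ext (congrArg (fun w : DD x z => (w : G)) h0))
    have h8 := three_le_card _ ha' hb' ha1 hb1 hab
    omega

end

/-- **J2** -/
theorem der (tab : OrderTable.{u}) (known : Known.{u}) {T : Type u} [Group T] (h : Spor.IsoJ2 T) {R : Subgroup T}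
    (hR : R ≠ ⊤) : Der T R := by
  have hc := NotCT.Orders.j2 h
  have : Finite T := Nat.finite_of_card_ne_zero (by rw [hc]; norm_num)
  obtain ⟨t, w, Q, v, ρ, D⟩ := Cfsg.Agent.KFacts.J2.Facts.exists_dat_of h
  obtain ⟨x, hx, hx4⟩ := exists_four D.F
  obtain ⟨y, hy, hy4⟩ := exists_not_four D.F
  refine der_of_two tab known (n := 604800) (l := [(2, 7), (3, 3), (5, 2), (7, 1)]) (r := 7) (s := 5) (ss := [])
    (bad := []) hc (by norm_num) (by norm_num) (no35 D.F) (by simp) (by decide +kernel) hx hy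
    (fun h0 => hy4 (h0 ▸ hx4)) hR (by simp)

end Cfsg.Agent.H904.El.J2
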