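import Mathlib

/-!
# Centralizers of elements of order `p` (helper904)

`sq_dvd_cent` : if `p ^ 2` divides `|G|` it divides `|C(x)|` for every element `x` of order `p`.
-/

set_option autoImplicit false

namespace Cfsg.Agent.H904.El

open Subgroup

theorem sq_dvd_cent {G : Type*} [Group G] [Finite G] {p : ℕ} (hp : p.Prime) (h : p ^ 2 ∣ Nat.card G) {x : G}
    (hx : orderOf x = p) : p ^ 2 ∣ Nat.card (centralizer ({x} : Set G)) := by
  have hp' : Fact p.Prime := ⟨hp⟩
  obtain ⟨P, hPp, hxP, hPc⟩ : ∃ P : Subgroup G, IsPGroup p P ∧ x ∈ P ∧ p ^ 2 ∣ Nat.card P := by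
    obtain ⟨P, hP⟩ := (IsPGroup.of_card (p := p) (n := 1) (G := zpowers x)
      (by rw [Nat.card_zpowers, hx, pow_one])).exists_le_sylow
    exact ⟨P, P.isPGroup', hP (mem_zpowers x), P.pow_dvd_card_of_pow_dvd_card h⟩
  set x' : P := ⟨x, hxP⟩ with hx'
  have hx'o : orderOf x' = p := by rw [hx', Subgroup.orderOf_mk, hx]
  have hcz : Nat.card (zpowers x') = p := by rw [Nat.card_zpowers, hx'o]
  -- the centralizer in `P`
  obtain ⟨k, hk⟩ := IsPGroup.iff_card.1 (hPp.to_subgroup (centralizer ({x'} : Set P)))
  have hxC : x' ∈ centralizer ({x'} : Set P) := mem_centralizer_singleton_iff.2 rfl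
  have hle : zpowers x' ≤ centralizer ({x'} : Set P) := zpowers_le.2 hxC
  have hk2 : 2 ≤ k := by
    by_contra hk1
    have h1 : p ≤ p ^ k := by
      calc p = Nat.card (zpowers x') := hcz.symm
        _ ≤ Nat.card (centralizer ({x'} : Set P)) := Subgroup.card_le_of_le hle
        _ = p ^ k := hk
    have hk1' : k = 1 := by
      rcases Nat.lt_or_ge k 1 with h2 | h2
      · have : k = 0 := by omega
        rw [this, pow_zero] at h1
        have := hp.one_lt
        omega
      · omega
    rw [hk1', pow_one] at hk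
    have hC : zpowers x' = centralizer ({x'} : Set P) := by
      apply Subgroup.eq_of_le_of_card_ge hle
      rw [hk, hcz]
    have hnt : Nontrivial P := by
      rw [← Finite.one_lt_card_iff_nontrivial]
      have h2 := Nat.le_of_dvd Nat.card_pos hPc
      have h3 := hp.one_lt
      nlinarith
    have hZ : Nontrivial (center P) := hPp.center_nontrivial
    have hZle : center P ≤ centralizer ({x'} : Set P) := fun z hz =>
      mem_centralizer_singleton_iff.2 ((mem_center_iff.1 hz x').symm)
    have hZc : center P = centralizer ({x'} : Set P) := by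
      apply Subgroup.eq_of_le_of_card_ge hZle
      rw [hk]
      obtain ⟨m, hm⟩ := IsPGroup.iff_card.1 (hPp.to_subgroup (center P))
      have h2 : 1 < Nat.card (center P) := Finite.one_lt_card
      rw [hm] at h2 ⊢
      have hm0 : m ≠ 0 := by rintro rfl; simp at h2
      exact Nat.le_self_pow hm0 p
    have hxZ : x' ∈ center P := by rw [hZc]; exact hxC
    have htop : centralizer ({x'} : Set P) = ⊤ := by
      rw [eq_top_iff]
      intro y _
      exact mem_centralizer_singleton_iff.2 (mem_center_iff.1 hxZ y)
    rw [htop, Subgroup.card_top] at hk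
    rw [hk] at hPc
    have h2 := Nat.le_of_dvd hp.pos hPc
    have h3 := hp.one_lt
    nlinarith
  have hle2 : (centralizer ({x'} : Set P)).map P.subtype ≤ centralizer ({x} : Set G) := by
    rintro _ ⟨y, hy, rfl⟩
    have h1 : y * x' = x' * y := mem_centralizer_singleton_iff.1 hy
    exact mem_centralizer_singleton_iff.2 (congrArg Subtype.val h1)
  have h1 := Subgroup.card_dvd_of_le hle2
  rw [Subgroup.card_map_of_injective P.subtype_injective, hk] at h1
  exact (pow_dvd_pow p hk2).trans h1

/-- commuting elements of orders `p`, `q` -/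
theorem dvd_cent_of_comm {G : Type*} [Group G] [Finite G] {q : ℕ} {x w : G} (hw : orderOf w = q)
    (h : x * w = w * x) : q ∣ Nat.card (centralizer ({x} : Set G)) := by
  have h1 : w ∈ centralizer ({x} : Set G) := mem_centralizer_singleton_iff.2 h.symm
  have h2 := orderOf_dvd_natCard (⟨w, h1⟩ : centralizer ({x} : Set G))
  rwa [Subgroup.orderOf_mk, hw] at h2

/-- the order of the centralizer is larger than `50` -/
theorem card_cent_five {G : Type*} [Group G] [Finite G] (h : 5 ^ 2 ∣ Nat.card G) {x w : G} (hx : orderOf x = 5)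
    (hw : orderOf w = 3) (hc : x * w = w * x) : 50 < Nat.card (centralizer ({x} : Set G)) := by
  have h1 := sq_dvd_cent (by norm_num) h hx
  have h2 := dvd_cent_of_comm hw hc
  have h3 : 5 ^ 2 * 3 ∣ Nat.card (centralizer ({x} : Set G)) :=
    Nat.Coprime.mul_dvd_of_dvd_of_dvd (by norm_num) h1 h2
  have h4 := Nat.le_of_dvd Nat.card_pos h3
  omega

end Cfsg.Agent.H904.El
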